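import Cfsg.Agent.LThreeFfour.Levi
import Cfsg.Agent.FourTwo.Lift
import Cfsg.Agent.SporRec.TwoSp6.CInvol
import Cfsg.Agent.SporRec.TwoSp6.Main

/-!
# S4816, the row `F₄(2)`, `p = 3`: the preimage of `M₀ ≅ Sp₆(2)` in a double cover of `F₄(2)` splits

The canonical lift of the long root element `x 41 ∈ M₀` is an involution, but `x 41` is a transvection of `M₀ ≅ Sp₆(2)`
and the lifts of the transvections to a nonsplit double cover of `Sp₆(2)` have order four.
-/

set_option autoImplicit false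

namespace Cfsg.Agent.H617.RIM

open Cfsg Subgroup
open Cfsg.Agent.FourTwo.RankInv
open Cfsg.Agent.FourTwo.Base hiding bar bar_lt x_mul_self
open Cfsg.Agent.FourTwo.ClassSep Cfsg.Agent.FourTwo.Par Cfsg.Agent.FourTwo.Cent Cfsg.Agent.FourTwo.BN
open Cfsg.Agent.LThreeFfour.Mat Cfsg.Agent.LThreeFfour.Rho Cfsg.Agent.LThreeFfour.Levi

universe u

theorem rhoM_41 (h : x 41 ∈ M0) : rhoM ⟨x 41, h⟩ = Cfsg.Agent.SporRec.TwoSp6.Sp.tr v0 := by
  apply Subtype.ext
  change r0 (x 41) = sympTransvection 3 v0 (1 : ZMod 2)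
  rw [← wd_one, r0_wd (by decide), transv_tab]

theorem v0_ne : v0 ≠ 0 := by decide +kernel

/-- **The preimage of `M₀ ≅ Sp₆(2)` in a double cover of `F₄(2)` splits.** -/
theorem split {E : Type u} [Group E] [Finite E] (π : E →* LL) (hs : Function.Surjective π) (hk : π.ker ≤ center E)
    (hm : Nat.card π.ker = 2) : ∃ L : Subgroup E, L ⊓ π.ker = ⊥ ∧ L ⊔ π.ker = M0.comap π := by
  classical
  obtain ⟨z, hz, hz1⟩ : ∃ z ∈ π.ker, z ≠ 1 := by
    have : Nontrivial π.ker := by
      rw [← Finite.one_lt_card_iff_nontrivial, hm]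
      norm_num
    obtain ⟨x, hx⟩ := exists_ne (1 : π.ker)
    exact ⟨x, x.2, fun h => hx (Subtype.ext h)⟩
  have hzz : z * z = 1 := by
    have h1 := pow_card_eq_one' (G := π.ker) (x := ⟨z, hz⟩)
    rw [hm, pow_two] at h1
    exact congrArg Subtype.val h1
  have hZz : ∀ g ∈ π.ker, g = 1 ∨ g = z := by
    intro g hg
    obtain ⟨a, b, hab, huniv⟩ := Nat.card_eq_two_iff.1 hm
    have hall : ∀ w : π.ker, w = a ∨ w = b := by
      intro w
      have : w ∈ ({a, b} : Set π.ker) := by rw [huniv]; exact Set.mem_univ _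
      simpa using this
    have h1 := hall 1
    have h2 := hall ⟨z, hz⟩
    have h3 := hall ⟨g, hg⟩
    have hne : (⟨z, hz⟩ : π.ker) ≠ 1 := fun h => hz1 (congrArg Subtype.val h)
    have h4 : (⟨g, hg⟩ : π.ker) = 1 ∨ (⟨g, hg⟩ : π.ker) = ⟨z, hz⟩ := by
      rcases h1 with h1 | h1 <;> rcases h2 with h2 | h2 <;> rcases h3 with h3 | h3
      · exact absurd (h2.trans h1.symm) hne
      · exact absurd (h2.trans h1.symm) hne
      · exact Or.inl (h3.trans h1.symm)
      · exact Or.inr (h3.trans h2.symm)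
      · exact Or.inr (h3.trans h2.symm)
      · exact Or.inl (h3.trans h1.symm)
      · exact absurd (h2.trans h1.symm) hne
      · exact absurd (h2.trans h1.symm) hne
    rcases h4 with h4 | h4
    · exact Or.inl (congrArg Subtype.val h4)
    · exact Or.inr (congrArg Subtype.val h4)
  have hzc : ∀ g, z * g = g * z := fun g => (mem_center_iff.1 (hk hz) g).symm
  have hzC : z ∈ M0.comap π := by
    rw [mem_comap, MonoidHom.mem_ker.1 hz]
    exact one_mem _
  let C : Subgroup E := M0.comap π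
  let z' : C := ⟨z, hzC⟩
  let π₀ : C →* ↥M0 := (π.comp C.subtype).codRestrict M0 fun c => c.2
  let ρ : C →* Cfsg.Agent.SporRec.TwoSp6.Sp.S := rhoM.comp π₀
  have hρ : ∀ c : C, ρ c = 1 → c = 1 ∨ c = z' := by
    intro c hc
    have h1 : π₀ c = 1 := rhoM_injective (hc.trans (map_one rhoM).symm)
    have h2 : π c = 1 := congrArg Subtype.val h1
    rcases hZz c (MonoidHom.mem_ker.2 h2) with h | h
    · exact Or.inl (Subtype.ext h)
    · exact Or.inr (Subtype.ext h)
  have EX : Cfsg.Agent.SporRec.TwoSp6.Lift.Ext z' ρ :=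
    { surj := by
        intro s
        obtain ⟨m, hm'⟩ := rhoM_surjective s
        obtain ⟨e, he⟩ := hs m
        refine ⟨⟨e, by rw [mem_comap, he]; exact m.2⟩, ?_⟩
        rw [← hm']
        exact congrArg rhoM (Subtype.ext he)
      z_ne := fun h => hz1 (congrArg Subtype.val h)
      z_sq := Subtype.ext hzz
      z_comm := fun g => Subtype.ext (hzc g)
      ker := hρ
      map_z := by
        have h1 : π₀ z' = 1 := Subtype.ext (MonoidHom.mem_ker.1 hz)
        exact (congrArg rhoM h1).trans (map_one rhoM) }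
  have E1 : Cfsg.Agent.FourTwo.Lift.Ext π :=
    { surj := hs
      cen := fun m h g => (mem_center_iff.1 (hk (MonoidHom.mem_ker.2 h)) g).symm }
  obtain ⟨L, hL⟩ : ∃ L : Subgroup C, (zpowers z').IsComplement' L := by
    by_contra hno
    obtain ⟨a, ha, R⟩ := Cfsg.Agent.SporRec.TwoSp6.Main.Ext.exists_rels EX (fun L hL => hno ⟨L, hL⟩)
    have N := Cfsg.Agent.SporRec.TwoSp6.CInvol.NS.of_rels EX ha R
    have h41 : x 41 ∈ M0 := x_mem_M0 (by decide)
    have hA : π (E1.A 41) = x 41 := E1.map_A (by norm_num)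
    have hAC : E1.A 41 ∈ C := by
      rw [mem_comap, hA]
      exact h41
    have h1 := N.sq v0 v0_ne ⟨E1.A 41, hAC⟩ (by
      refine Eq.trans ?_ (rhoM_41 h41)
      exact congrArg rhoM (Subtype.ext hA))
    have h2 := congrArg Subtype.val h1
    exact hz1 (h2.symm.trans (E1.A_sq (by norm_num)))
  refine ⟨L.map C.subtype, ?_, ?_⟩
  · rw [eq_bot_iff]
    rintro g ⟨hg1, hg2⟩
    obtain ⟨c, hc, rfl⟩ := hg1
    rcases hZz _ hg2 with h | h
    · exact Subgroup.mem_bot.2 h
    · exfalso
      have h3 : c = z' := Subtype.ext h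
      rw [h3] at hc
      have h4 : z' ∈ zpowers z' ⊓ L := ⟨mem_zpowers z', hc⟩
      rw [hL.disjoint.eq_bot, mem_bot] at h4
      exact hz1 (congrArg Subtype.val h4)
  · apply le_antisymm
    · refine sup_le (map_subtype_le L) ?_
      intro g hg
      rw [mem_comap, MonoidHom.mem_ker.1 hg]
      exact one_mem _
    · have h1 : (zpowers z' ⊔ L).map C.subtype = C := by
        rw [hL.sup_eq_top, ← MonoidHom.range_eq_map, range_subtype]
      rw [Subgroup.map_sup] at h1
      refine h1.symm.le.trans ?_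
      rw [sup_comm]
      refine sup_le_sup le_rfl ?_
      rw [map_le_iff_le_comap, zpowers_le, mem_comap]
      exact hz

/-- the same for a group isomorphic to `F₄(2)` -/
theorem split_equiv {E : Type u} [Group E] [Finite E] {S' : Type*} [Group S'] (e : S' ≃* LL) (π : E →* S')
    (hs : Function.Surjective π) (hk : π.ker ≤ center E) (hm : Nat.card π.ker = 2) :
    ∃ L : Subgroup E, L ⊓ π.ker = ⊥ ∧ L ⊔ π.ker = (M0.comap e.toMonoidHom).comap π := by
  have h1 : (e.toMonoidHom.comp π).ker = π.ker := by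
    ext g
    rw [MonoidHom.mem_ker, MonoidHom.mem_ker]
    exact ⟨fun hg => e.injective (hg.trans (map_one e).symm), fun hg => (congrArg e hg).trans (map_one e)⟩
  have h := split (e.toMonoidHom.comp π) (e.surjective.comp hs) (by rw [h1]; exact hk) (by rw [h1]; exact hm)
  rwa [h1] at h

/-- the complement is isomorphic to `M₀` -/
theorem split_iso {E : Type u} [Group E] [Finite E] {S' : Type*} [Group S'] (e : S' ≃* LL) (π : E →* S')
    (hs : Function.Surjective π) (hk : π.ker ≤ center E) (hm : Nat.card π.ker = 2) :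
    ∃ L : Subgroup E, L ⊓ π.ker = ⊥ ∧ L ⊔ π.ker = (M0.comap e.toMonoidHom).comap π ∧
      ∃ f : ↥L ≃* ↥M0, ∀ g : ↥L, ((f g : ↥M0) : LL) = e (π g) := by
  obtain ⟨L, h1, h2⟩ := split_equiv e π hs hk hm
  refine ⟨L, h1, h2, ?_⟩
  have hL : ∀ g : ↥L, e (π g) ∈ M0 := fun g => by
    have h3 : (g : E) ∈ (M0.comap e.toMonoidHom).comap π := by
      rw [← h2]
      exact mem_sup_left g.2
    exact h3
  let f : ↥L →* ↥M0 := ((e.toMonoidHom.comp π).comp L.subtype).codRestrict M0 hL
  refine ⟨MulEquiv.ofBijective f ⟨?_, ?_⟩, fun g => rfl⟩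
  · rw [injective_iff_map_eq_one]
    intro g hg
    have h3 : e (π g) = 1 := congrArg Subtype.val hg
    have h4 : π g = 1 := e.injective (h3.trans (map_one e).symm)
    have h5 : (g : E) ∈ L ⊓ π.ker := ⟨g.2, MonoidHom.mem_ker.2 h4⟩
    rw [h1, mem_bot] at h5
    exact Subtype.ext h5
  · intro m
    obtain ⟨a, ha⟩ := hs (e.symm m)
    have h3 : a ∈ (M0.comap e.toMonoidHom).comap π := by
      rw [mem_comap, mem_comap, ha]
      change e (e.symm m) ∈ M0
      rw [e.apply_symm_apply]
      exact m.2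
    have hn : π.ker.Normal := inferInstance
    rw [← h2, mem_sup_of_normal_right] at h3
    obtain ⟨l, hl, k, hk', rfl⟩ := h3
    refine ⟨⟨l, hl⟩, Subtype.ext ?_⟩
    change e (π l) = m
    rw [map_mul, MonoidHom.mem_ker.1 hk', mul_one] at ha
    rw [ha, e.apply_symm_apply]

end Cfsg.Agent.H617.RIM
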